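import Cfsg.Agent.H0.Cover
import Cfsg.Agent.H0.MA7.D
set_option maxRecDepth 100000
set_option Elab.async false
set_option linter.unusedSectionVars false
namespace H0.VA73
open H0 BN 
noncomputable def n0 : Net := (Net.cons (nat_lit 32) (nat_lit 0xc7e00000) (Net.cons (nat_lit 16) (nat_lit 0xd8000000b051) (Net.cons (nat_lit 8) (nat_lit 0xe0000100200065) (Net.cons (nat_lit 4) (nat_lit 0x7000c0708070307) (Net.cons (nat_lit 2) (nat_lit 0x3200022320100323) (Net.cons (nat_lit 1) (nat_lit 0x1500055010050415) (Net.cons (nat_lit 2) (nat_lit 0x20000200) (Net.cons (nat_lit 4) (nat_lit 0xc0c00000204) (Net.cons (nat_lit 8) (nat_lit 0xe000c000200044) (Net.cons (nat_lit 16) (nat_lit 0xdc000000904a) (Net.cons (nat_lit 32) (nat_lit 0xc7e00000) Net.nil)))))))))))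
noncomputable def n1 : Net := (Net.cons (nat_lit 32) (nat_lit 0xc7e00000) (Net.cons (nat_lit 16) (nat_lit 0xdc00000069b5) (Net.cons (nat_lit 8) (nat_lit 0xe0003f00bb0020) (Net.cons (nat_lit 4) (nat_lit 0xe00030c0a05000f) (Net.cons (nat_lit 2) (nat_lit 0x1300310130102001) (Net.cons (nat_lit 1) (nat_lit 0x5400050551101050) (Net.cons (nat_lit 2) (nat_lit 0x2002000) (Net.cons (nat_lit 4) (nat_lit 0x80c00040808) (Net.cons (nat_lit 8) (nat_lit 0xe000fe009a0020) (Net.cons (nat_lit 16) (nat_lit 0xd800000049ae) (Net.cons (nat_lit 32) (nat_lit 0xc7e00000) Net.nil)))))))))))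
noncomputable def n2 : Net := (Net.cons (nat_lit 32) (nat_lit 0x9571b8c5) (Net.cons (nat_lit 16) (nat_lit 0x94c0000062ac) (Net.cons (nat_lit 8) (nat_lit 0xa100f7008e0069) (Net.cons (nat_lit 4) (nat_lit 0x4000c07000a050d) (Net.cons (nat_lit 2) (nat_lit 0x3010032000201212) (Net.cons (nat_lit 1) (nat_lit 0x4000445104000114) (Net.cons (nat_lit 2) (nat_lit 0x20200000220) (Net.cons (nat_lit 4) (nat_lit 0x4000c0608080400) (Net.cons (nat_lit 8) (nat_lit 0x2000c0008c0026) (Net.cons (nat_lit 16) (nat_lit 0x1f000002a2e) (Net.cons (nat_lit 32) (nat_lit 0x9571ba48) Net.nil)))))))))))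
noncomputable def n3 : Net := (Net.cons (nat_lit 32) (nat_lit 0x93d730cc) (Net.cons (nat_lit 16) (nat_lit 0xafff00007160) (Net.cons (nat_lit 8) (nat_lit 0xf30013005c000e) (Net.cons (nat_lit 4) (nat_lit 0x10c0002040c0a0d) (Net.cons (nat_lit 2) (nat_lit 0x1130200101300000) (Net.cons (nat_lit 1) (nat_lit 0x4110104004100441) (Net.cons (nat_lit 2) (nat_lit 0x2220202000000220) (Net.cons (nat_lit 4) (nat_lit 0x40c0006040c000e) (Net.cons (nat_lit 8) (nat_lit 0xd40000001c00a0) (Net.cons (nat_lit 16) (nat_lit 0xafe800003540) (Net.cons (nat_lit 32) (nat_lit 0x93d73ac8) Net.nil)))))))))))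
noncomputable def n4 : Net := (Net.cons (nat_lit 32) (nat_lit 0x23b1850d) (Net.cons (nat_lit 16) (nat_lit 0x21b00000814a) (Net.cons (nat_lit 8) (nat_lit 0x21000a005e001a) (Net.cons (nat_lit 4) (nat_lit 0x209090f04080000) (Net.cons (nat_lit 2) (nat_lit 0x2021002103203) (Net.cons (nat_lit 1) (nat_lit 0x101114001404411) (Net.cons (nat_lit 2) (nat_lit 0x2222000000202) (Net.cons (nat_lit 4) (nat_lit 0x80004000c080c) (Net.cons (nat_lit 8) (nat_lit 0x200084001e0050) (Net.cons (nat_lit 16) (nat_lit 0x218000009d08) (Net.cons (nat_lit 32) (nat_lit 0x23b18df4) Net.nil)))))))))))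
noncomputable def n5 : Net := (Net.cons (nat_lit 32) (nat_lit 0xdc4e720b) (Net.cons (nat_lit 16) (nat_lit 0x3e4e00002180) (Net.cons (nat_lit 8) (nat_lit 0xa2005300930084) (Net.cons (nat_lit 4) (nat_lit 0xc02090c0100080b) (Net.cons (nat_lit 2) (nat_lit 0x3022210120002201) (Net.cons (nat_lit 1) (nat_lit 0x1040111410011101) (Net.cons (nat_lit 2) (nat_lit 0x2020200020000202) (Net.cons (nat_lit 4) (nat_lit 0x80c0c0000020800) (Net.cons (nat_lit 8) (nat_lit 0xa400120092000a) (Net.cons (nat_lit 16) (nat_lit 0x2602000021b0) (Net.cons (nat_lit 32) (nat_lit 0xdc4e7af2) Net.nil)))))))))))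
noncomputable def n6 : Net := (Net.cons (nat_lit 32) (nat_lit 0x553dd13c) (Net.cons (nat_lit 16) (nat_lit 0x11950000a702) (Net.cons (nat_lit 8) (nat_lit 0x4100de00e000ae) (Net.cons (nat_lit 4) (nat_lit 0x109090d0c020e0f) (Net.cons (nat_lit 2) (nat_lit 0x12121200003203) (Net.cons (nat_lit 1) (nat_lit 0x11441101000004) (Net.cons (nat_lit 2) (nat_lit 0x2022000000002) (Net.cons (nat_lit 4) (nat_lit 0x40c0a00000406) (Net.cons (nat_lit 8) (nat_lit 0x5000c400e20036) (Net.cons (nat_lit 16) (nat_lit 0x54b40000ad40) (Net.cons (nat_lit 32) (nat_lit 0x553dcc34) Net.nil)))))))))))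
noncomputable def n7 : Net := (Net.cons (nat_lit 32) (nat_lit 0x553dcc34) (Net.cons (nat_lit 16) (nat_lit 0x8b4b0000ad40) (Net.cons (nat_lit 8) (nat_lit 0xc4002400e20036) (Net.cons (nat_lit 4) (nat_lit 0x30503090c020e09) (Net.cons (nat_lit 2) (nat_lit 0x2301032000003210) (Net.cons (nat_lit 1) (nat_lit 0x4114041001000010) (Net.cons (nat_lit 2) (nat_lit 0x2222022000000000) (Net.cons (nat_lit 4) (nat_lit 0x602060000000400) (Net.cons (nat_lit 8) (nat_lit 0xde002400e000ae) (Net.cons (nat_lit 16) (nat_lit 0xce6a0000a702) (Net.cons (nat_lit 32) (nat_lit 0x553dd13c) Net.nil)))))))))))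
noncomputable def n8 : Net := (Net.cons (nat_lit 32) (nat_lit 0xc1004bd8) (Net.cons (nat_lit 16) (nat_lit 0xde3e0000a747) (Net.cons (nat_lit 8) (nat_lit 0x760001009c001c) (Net.cons (nat_lit 4) (nat_lit 0x3040c00030c0c0c) (Net.cons (nat_lit 2) (nat_lit 0x112010002213020) (Net.cons (nat_lit 1) (nat_lit 0x104040014551004) (Net.cons (nat_lit 2) (nat_lit 0x200000022000000) (Net.cons (nat_lit 4) (nat_lit 0xc0008080e08) (Net.cons (nat_lit 8) (nat_lit 0x7c00c000ba0030) (Net.cons (nat_lit 16) (nat_lit 0xde3e00008d84) (Net.cons (nat_lit 32) (nat_lit 0xc10057e8) Net.nil)))))))))))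
noncomputable def n9 : Net := (Net.cons (nat_lit 32) (nat_lit 0x9529bbe1) (Net.cons (nat_lit 16) (nat_lit 0x282d00007754) (Net.cons (nat_lit 8) (nat_lit 0x9d00c2008400e2) (Net.cons (nat_lit 4) (nat_lit 0x2000f000d000a09) (Net.cons (nat_lit 2) (nat_lit 0x20030230122221) (Net.cons (nat_lit 1) (nat_lit 0x114111014044050) (Net.cons (nat_lit 2) (nat_lit 0x20022022000) (Net.cons (nat_lit 4) (nat_lit 0x2080a0004040008) (Net.cons (nat_lit 8) (nat_lit 0xb000c000c000e8) (Net.cons (nat_lit 16) (nat_lit 0xac0400003d52) (Net.cons (nat_lit 32) (nat_lit 0x9529a062) Net.nil)))))))))))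
noncomputable def n10 : Net := (Net.cons (nat_lit 32) (nat_lit 0x6ad65f9d) (Net.cons (nat_lit 16) (nat_lit 0x3d560000ae3d) (Net.cons (nat_lit 8) (nat_lit 0xc000e8000c0015) (Net.cons (nat_lit 4) (nat_lit 0x1040e0e05000006) (Net.cons (nat_lit 2) (nat_lit 0x312221100000010) (Net.cons (nat_lit 1) (nat_lit 0x4404044151100041) (Net.cons (nat_lit 2) (nat_lit 0x2020002000022) (Net.cons (nat_lit 4) (nat_lit 0x400040a0c00000a) (Net.cons (nat_lit 8) (nat_lit 0x8400e200000014) (Net.cons (nat_lit 16) (nat_lit 0x774400002b1c) (Net.cons (nat_lit 32) (nat_lit 0x6ad6441e) Net.nil)))))))))))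
noncomputable def n11 : Net := (Net.cons (nat_lit 32) (nat_lit 0xf8fc0000) (Net.cons (nat_lit 16) (nat_lit 0xc3fe00000d8d) (Net.cons (nat_lit 8) (nat_lit 0x80001c00810062) (Net.cons (nat_lit 4) (nat_lit 0x30000050e000001) (Net.cons (nat_lit 2) (nat_lit 0x32001102022130) (Net.cons (nat_lit 1) (nat_lit 0x144004441011041) (Net.cons (nat_lit 2) (nat_lit 0x220002022000020) (Net.cons (nat_lit 4) (nat_lit 0x800000006000400) (Net.cons (nat_lit 8) (nat_lit 0x8000c000860050) (Net.cons (nat_lit 16) (nat_lit 0xc3fe00000c8e) (Net.cons (nat_lit 32) (nat_lit 0xf8fc0000) Net.nil)))))))))))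
noncomputable def n12 : Net := (Net.cons (nat_lit 32) (nat_lit 0xfc3fe3c4) (Net.cons (nat_lit 16) (nat_lit 0xb9e100001ffc) (Net.cons (nat_lit 8) (nat_lit 0x55005c00b00003) (Net.cons (nat_lit 4) (nat_lit 0xd0b08060300000c) (Net.cons (nat_lit 2) (nat_lit 0x2003201302100003) (Net.cons (nat_lit 1) (nat_lit 0x415100515000000) (Net.cons (nat_lit 2) (nat_lit 0x20000000) (Net.cons (nat_lit 4) (nat_lit 0x80600000804000c) (Net.cons (nat_lit 8) (nat_lit 0x4c005000b80000) (Net.cons (nat_lit 16) (nat_lit 0xd5c800001ffc) (Net.cons (nat_lit 32) (nat_lit 0xfc3fe1c4) Net.nil)))))))))))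
noncomputable def n13 : Net := (Net.cons (nat_lit 32) (nat_lit 0xfc3fe1c4) (Net.cons (nat_lit 16) (nat_lit 0x283700001ffc) (Net.cons (nat_lit 8) (nat_lit 0x5000b300b800c3) (Net.cons (nat_lit 4) (nat_lit 0x90907040c00) (Net.cons (nat_lit 2) (nat_lit 0x13302012100300) (Net.cons (nat_lit 1) (nat_lit 0x1005510451000000) (Net.cons (nat_lit 2) (nat_lit 0x2000000000000000) (Net.cons (nat_lit 4) (nat_lit 0x806040c0c000c00) (Net.cons (nat_lit 8) (nat_lit 0x5c00aa00b000c0) (Net.cons (nat_lit 16) (nat_lit 0x441e00001ffc) (Net.cons (nat_lit 32) (nat_lit 0xfc3fe3c4) Net.nil)))))))))))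
noncomputable def n14 : Net := (Net.cons (nat_lit 32) (nat_lit 0x85007ba8) (Net.cons (nat_lit 16) (nat_lit 0x840800009c7f) (Net.cons (nat_lit 8) (nat_lit 0x800d3001c00fc) (Net.cons (nat_lit 4) (nat_lit 0xe000a0c0b02) (Net.cons (nat_lit 2) (nat_lit 0x300123022202002) (Net.cons (nat_lit 1) (nat_lit 0x100044114104111) (Net.cons (nat_lit 2) (nat_lit 0x200022000002002) (Net.cons (nat_lit 4) (nat_lit 0x4040a080602) (Net.cons (nat_lit 8) (nat_lit 0x80046004400fc) (Net.cons (nat_lit 16) (nat_lit 0x840800009cfc) (Net.cons (nat_lit 32) (nat_lit 0x85006b88) Net.nil)))))))))))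
noncomputable def n15 : Net := (Net.cons (nat_lit 32) (nat_lit 0x85006ba8) (Net.cons (nat_lit 16) (nat_lit 0x840800006303) (Net.cons (nat_lit 8) (nat_lit 0x8003100fc0054) (Net.cons (nat_lit 4) (nat_lit 0xc040902060c) (Net.cons (nat_lit 2) (nat_lit 0x100101202021200) (Net.cons (nat_lit 1) (nat_lit 0x400110414115010) (Net.cons (nat_lit 2) (nat_lit 0x202020020) (Net.cons (nat_lit 4) (nat_lit 0x604020c08) (Net.cons (nat_lit 8) (nat_lit 0x800a400fc0014) (Net.cons (nat_lit 16) (nat_lit 0x840800006380) (Net.cons (nat_lit 32) (nat_lit 0x85006ba8) Net.nil)))))))))))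
noncomputable def n16 : Net := (Net.cons (nat_lit 32) (nat_lit 0xc0000000) (Net.cons (nat_lit 16) (nat_lit 0xc00000008000) (Net.cons (nat_lit 8) (nat_lit 0xb2009200c9) (Net.cons (nat_lit 4) (nat_lit 0x80b0b080802) (Net.cons (nat_lit 2) (nat_lit 0x223323222233) (Net.cons (nat_lit 1) (nat_lit 0x550110555540) (Net.cons (nat_lit 2) (nat_lit 0x200000020) (Net.cons (nat_lit 4) (nat_lit 0x202000004) (Net.cons (nat_lit 8) (nat_lit 0x6400240092) (Net.cons (nat_lit 16) (nat_lit 0xc00000008000) (Net.cons (nat_lit 32) (nat_lit 0xc0000000) Net.nil)))))))))))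
noncomputable def nl : List Net := [n0, n1, n2, n3, n4, n5, n6, n7, n8, n9, n10, n11, n12, n13, n14, n15, n16]
theorem nl_ok : allL (Net.ok (nat_lit 64)) nl = true := by decide +kernel
noncomputable def R : Rep := mkRep (nat_lit 6) (nat_lit 64) nl (by decide +kernel) nl_ok
def defs : List (List ℕ) := []
theorem R_ge : ∀ x, 17 + defs.length ≤ x → R.p x = 1 := fun _ hx => mkRep_ge hx
def J : List ℕ := [0, 0, 0, 0, 0, 0, 0, 0, 2, 0, 0, 2, 0, 0, 0, 0, 0, 0, 0, 0, 1, 0, 1, 2, 2, 0, 1, 0, 2, 1, 2, 2, 2, 0, 0, 0, 1, 0, 1, 0, 0, 2, 1, 0, 2, 1, 1, 0]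
def c : List ℕ := [0, 0, 0, 0, 0, 0, 0, 0, 0, 0, 0, 0, 0, 0, 0, 0, 0, 0, 0, 0, 0, 0, 0, 0, 0, 0, 0, 0, 2, 2, 0, 0, 1, 0, 0, 0, 0, 0, 0, 0, 0, 0, 0, 0, 0, 0, 0, 0]
def E : List (List ℕ × List ℕ) := covE 16 H0.MA7.B J
theorem c0 : pairsW R 0 6 ((E.drop 0).take 64) = true := by decide +kernel
theorem c1 : eqW R 0 R.lg [16, 16, 16] [] = true := by decide +kernel
theorem c2 : mapsP R [16] [0] [2] = true := by decide +kernel
end H0.VA73
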